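import Groth.Agent.SmSub.Ring
import Groth.Agent.EtChart.Basic

/-!
# Étale charts of a smooth closed subscheme
-/

set_option autoImplicit false
set_option linter.style.haveILetI false
set_option backward.isDefEq.respectTransparency false

universe u

open CategoryTheory CategoryTheory.Limits AlgebraicGeometry MvPolynomial

noncomputable section

namespace Groth.Agent.SmSub

variable {S X Y : Scheme.{u}}

theorem etale_eval {A A' L L' σ' : Type u} {σ : Type} [CommRing A] [CommRing A'] [CommRing L] [CommRing L'] [Algebra A L]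
    (eA : A' ≃+* A) (eL : L ≃+* L') (es : σ' ≃ σ) (G : σ → L)
    (h : (aeval G : MvPolynomial σ A →ₐ[A] L).toRingHom.Etale) (φ : A' →+* L')
    (hφ : ∀ a, eL (algebraMap A L (eA a)) = φ a) :
    (eval₂Hom φ (fun j => eL (G (es j)))).Etale := by
  let e1 : MvPolynomial σ' A' ≃+* MvPolynomial σ A := (mapEquiv _ eA).trans (renameEquiv A es).toRingEquiv
  have he : eval₂Hom φ (fun j => eL (G (es j))) =
      eL.toRingHom.comp ((aeval G : MvPolynomial σ A →ₐ[A] L).toRingHom.comp e1.toRingHom) := by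
    apply MvPolynomial.ringHom_ext
    · intro a
      simp [e1, ← hφ]
    · intro j
      simp [e1]
  rw [he]
  exact RingHom.Etale.respectsIso.1 _ eL (RingHom.Etale.respectsIso.2 _ e1 h)

theorem exists_chart (pX : X ⟶ S) (pY : Y ⟶ S) [Smooth pX] [Smooth pY]
    (i : Y ⟶ X) [IsClosedImmersion i] (hw : i ≫ pX = pY) (y : Y) :
    ∃ (U₀ : S.Opens) (U : X.Opens) (hU : IsAffineOpen U) (e : U ≤ pX ⁻¹ᵁ U₀) (m n : ℕ)
      (v : ULift.{u} (Fin m ⊕ Fin n) → Γ(U, ⊤)),
      i.base y ∈ U ∧ Etale (AffineSpace.homOfVector (pX.resLE U₀ U e) v) ∧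
      RingHom.ker (i ∣_ U).appTop.hom = Ideal.span (Set.range fun j => v ⟨Sum.inr j⟩) := by
  classical
  set x := i.base y with hxdef
  obtain ⟨U₀, hU₀, hsx, -⟩ := exists_isAffineOpen_mem_and_subset (X := S) (x := pX.base x) (U := ⊤) trivial
  obtain ⟨V₀, hV₀, hxV, hVU⟩ := exists_isAffineOpen_mem_and_subset (X := X) (x := x) (U := pX ⁻¹ᵁ U₀) hsx
  have e₀ : V₀ ≤ pX ⁻¹ᵁ U₀ := hVU
  have hW : IsAffineOpen (i ⁻¹ᵁ V₀) := hV₀.preimage i
  have eY : i ⁻¹ᵁ V₀ ≤ pY ⁻¹ᵁ U₀ := fun z hz => by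
    have h : pX.base (i.base z) ∈ U₀ := e₀ hz
    rw [← hw]
    exact h
  let A := Γ(S, U₀)
  let B := Γ(X, V₀)
  let C := Γ(Y, i ⁻¹ᵁ V₀)
  letI : Algebra A B := (pX.appLE U₀ V₀ e₀).hom.toAlgebra
  letI : Algebra A C := (pY.appLE U₀ _ eY).hom.toAlgebra
  haveI : Algebra.Smooth A B := RingHom.smooth_algebraMap.1 (pX.smooth_appLE hU₀ hV₀ e₀)
  haveI : Algebra.Smooth A C := RingHom.smooth_algebraMap.1 (pY.smooth_appLE hU₀ hW eY)
  let ψ : B →ₐ[A] C :=
    { (i.app V₀).hom with
      commutes' := fun a => by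
        show (i.app V₀).hom ((pX.appLE U₀ V₀ e₀).hom a) = (pY.appLE U₀ _ eY).hom a
        rw [← CommRingCat.comp_apply, Scheme.Hom.app_eq_appLE, Scheme.Hom.appLE_comp_appLE]
        subst hw
        rfl }
  have hψ : Function.Surjective ψ := i.app_surjective V₀ hV₀
  let J : Ideal B := RingHom.ker ψ
  have hJfg : J.FG := Algebra.FinitePresentation.ker_fG_of_surjective ψ hψ
  haveI : Algebra.Smooth A (B ⧸ J) := Algebra.Smooth.of_equiv (Ideal.quotientKerAlgEquivOfSurjective hψ).symm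
  let q : Ideal B := (hV₀.primeIdealOf ⟨x, hxV⟩).asIdeal
  have hJq : J ≤ q := by
    intro b hb
    by_contra hbq
    have hxb : x ∈ X.basicOpen b := by
      have h3 : hV₀.primeIdealOf ⟨x, hxV⟩ ∈ hV₀.fromSpec ⁻¹ᵁ X.basicOpen b := by
        rw [hV₀.fromSpec_preimage_basicOpen]; exact hbq
      have h4 : hV₀.fromSpec.base (hV₀.primeIdealOf ⟨x, hxV⟩) ∈ X.basicOpen b := h3
      rwa [hV₀.fromSpec_primeIdealOf] at h4
    have hy : y ∈ Y.basicOpen ((i.app V₀).hom b) := by
      rw [← Scheme.preimage_basicOpen]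
      exact hxb
    rw [show (i.app V₀).hom b = 0 from hb, Scheme.basicOpen_zero] at hy
    exact hy
  let Q : Ideal (B ⧸ J) := q.map (Ideal.Quotient.mk J)
  haveI hQp : Q.IsPrime := Ideal.map_isPrime_of_surjective Ideal.Quotient.mk_surjective (by rwa [Ideal.mk_ker])
  have hQ : Q.comap (Ideal.Quotient.mk J) = q := by
    rw [Ideal.comap_map_of_surjective _ Ideal.Quotient.mk_surjective, ← RingHom.ker_eq_comap_bot, Ideal.mk_ker,
      sup_of_le_left hJq]
  haveI : Algebra.IsSmoothAt A q := inferInstance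
  haveI : Algebra.IsSmoothAt A Q := inferInstance
  obtain ⟨r, g, hg, hgen, hmin⟩ := exists_gens J hJfg q
  obtain ⟨f, hf, m, g', het, hJ⟩ := Groth.Agent.S2818.result A B J hJfg q hJq Q hQ r g hg hgen hmin
  let U : X.Opens := X.basicOpen f
  have hU : IsAffineOpen U := hV₀.basicOpen f
  have e : U ≤ pX ⁻¹ᵁ U₀ := (X.basicOpen_le f).trans e₀
  letI : Algebra B Γ(X, U) := (X.presheaf.map (homOfLE (X.basicOpen_le f)).op).hom.toAlgebra
  haveI : IsLocalization.Away f Γ(X, U) := hV₀.isLocalization_basicOpen f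
  let ε : Localization.Away f ≃ₐ[B] Γ(X, U) := IsLocalization.algEquiv (Submonoid.powers f) _ _
  let θ : Localization.Away f →+* Γ(U, ⊤) := U.topIso.inv.hom.comp ε.toRingEquiv.toRingHom
  let G : Fin r ⊕ Fin m → Localization.Away f :=
    Sum.elim (fun j => algebraMap B (Localization.Away f) (g j)) g'
  let v : ULift.{u} (Fin m ⊕ Fin r) → Γ(U, ⊤) := fun j => θ (G j.down.swap)
  have hmapU : ∀ a : A, θ (algebraMap A (Localization.Away f) a) =
      (pX.resLE U₀ U e).appTop (U₀.topIso.inv a) := by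
    intro a
    rw [IsScalarTower.algebraMap_apply A B (Localization.Away f)]
    show U.topIso.inv (ε (algebraMap B _ (algebraMap A B a))) = _
    rw [AlgEquiv.commutes]
    show U.topIso.inv ((X.presheaf.map (homOfLE (X.basicOpen_le f)).op).hom ((pX.appLE U₀ V₀ e₀).hom a)) = _
    rw [Scheme.Hom.appTop, Scheme.Hom.resLE_app_top]
    simp only [← CommRingCat.comp_apply]
    rw [Scheme.Hom.appLE_map, Iso.inv_hom_id_assoc, CommRingCat.comp_apply]
  refine ⟨U₀, U, hU, e, m, r, v, ?_, ?_, ?_⟩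
  · show x ∈ X.basicOpen f
    have h3 : hV₀.primeIdealOf ⟨x, hxV⟩ ∈ hV₀.fromSpec ⁻¹ᵁ X.basicOpen f := by
      rw [hV₀.fromSpec_preimage_basicOpen]; exact hf
    have h4 : hV₀.fromSpec.base (hV₀.primeIdealOf ⟨x, hxV⟩) ∈ X.basicOpen f := h3
    rwa [hV₀.fromSpec_primeIdealOf] at h4
  · haveI : IsAffine U₀.toScheme := hU₀
    haveI : IsAffine U.toScheme := hU
    apply EtChart.etale_homOfVector_of_isAffine
    exact etale_eval U₀.topIso.commRingCatIsoToRingEquiv
      (ε.toRingEquiv.trans U.topIso.symm.commRingCatIsoToRingEquiv)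
      (Equiv.ulift.trans (Equiv.sumComm _ _)) G het _
      (fun a => (hmapU (U₀.topIso.hom a)).trans (by rw [Iso.hom_inv_id_apply]))
  · have hk : RingHom.ker (i.app U).hom = J.map (algebraMap B Γ(X, U)) := by
      have h := i.ker.map_ideal_basicOpen ⟨V₀, hV₀⟩ f
      rw [Scheme.Hom.ker_apply, Scheme.Hom.ker_apply] at h
      exact h.symm
    rw [show algebraMap B Γ(X, U) = ε.toRingEquiv.toRingHom.comp (algebraMap B (Localization.Away f)) from
      RingHom.ext fun b => (ε.commutes b).symm, ← Ideal.map_map, hJ, Ideal.map_span, ← Set.range_comp] at hk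
    have h3 : RingHom.ker (i ∣_ U).appTop.hom = (RingHom.ker (i.app U).hom).map U.topIso.inv.hom := by
      have hcomp : (i ∣_ U).appTop = U.topIso.hom ≫ i.app U ≫ (i ⁻¹ᵁ U).topIso.inv := by
        rw [← Scheme.Hom.resLE_eq_morphismRestrict, Scheme.Hom.appTop, Scheme.Hom.resLE_app_top,
          Scheme.Hom.app_eq_appLE]
      rw [hcomp]
      ext z
      show ((i ⁻¹ᵁ U).topIso.inv ((i.app U) (U.topIso.hom z)) = 0) ↔ _
      constructor
      · intro hz
        have h0 : (i.app U) (U.topIso.hom z) = 0 :=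
          (i ⁻¹ᵁ U).topIso.symm.commRingCatIsoToRingEquiv.injective (hz.trans (map_zero _).symm)
        rw [← Iso.hom_inv_id_apply U.topIso z]
        exact Ideal.mem_map_of_mem _ h0
      · intro hz
        obtain ⟨a, ha, rfl⟩ := (Ideal.mem_map_iff_of_surjective U.topIso.inv.hom
          U.topIso.symm.commRingCatIsoToRingEquiv.surjective).1 hz
        rw [Iso.inv_hom_id_apply, show (i.app U) a = 0 from ha, map_zero]
    rw [h3, hk, Ideal.map_span, ← Set.range_comp]
    rfl

/-- Pullback of the coordinate subspace. -/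
theorem isPullback_coord {U₁ W : Scheme.{u}} [IsAffine U₁] {m n : ℕ} (j : W ⟶ U₁) [IsClosedImmersion j] (b : U₁ ⟶ S)
    (v : ULift.{u} (Fin m ⊕ Fin n) → Γ(U₁, ⊤))
    (hker : RingHom.ker j.appTop.hom = Ideal.span (Set.range fun k => v ⟨Sum.inr k⟩)) :
    IsPullback (AffineSpace.homOfVector (j ≫ b) (fun a : ULift.{u} (Fin m) => j.appTop (v ⟨Sum.inl a.down⟩))) j
      (AffineSpace.homOfVector (𝔸(ULift.{u} (Fin m); S) ↘ S)
        (fun k : ULift.{u} (Fin m ⊕ Fin n) => Sum.elim (fun a => AffineSpace.coord S (ULift.up a)) (fun _ => 0) k.down))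
      (AffineSpace.homOfVector b v) := by
  set ρ := AffineSpace.homOfVector (j ≫ b) (fun a : ULift.{u} (Fin m) => j.appTop (v ⟨Sum.inl a.down⟩))
  set Z := AffineSpace.homOfVector (𝔸(ULift.{u} (Fin m); S) ↘ S)
    (fun k : ULift.{u} (Fin m ⊕ Fin n) => Sum.elim (fun a => AffineSpace.coord S (ULift.up a)) (fun _ => 0) k.down)
  have hsq : ρ ≫ Z = j ≫ AffineSpace.homOfVector b v := by
    apply AffineSpace.hom_ext
    · simp [Z, ρ]
    · rintro ⟨a | a⟩
      · simp only [Scheme.Hom.comp_appTop, CommRingCat.comp_apply, Z, AffineSpace.homOfVector_appTop_coord,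
          Sum.elim_inl, ρ]
      · simp only [Scheme.Hom.comp_appTop, CommRingCat.comp_apply, Z, AffineSpace.homOfVector_appTop_coord,
          Sum.elim_inr, map_zero]
        exact (RingHom.mem_ker.1 (hker.ge (Ideal.subset_span ⟨a, rfl⟩))).symm
  refine ⟨⟨hsq⟩, ⟨PullbackCone.IsLimit.mk hsq (fun s => IsClosedImmersion.lift j s.snd ?_)
    (fun s => ?_) (fun s => IsClosedImmersion.lift_fac _ _ _)
    (fun s g hg1 hg2 => by rw [← cancel_mono j, hg2, IsClosedImmersion.lift_fac])⟩⟩
  · apply Scheme.IdealSheafData.le_of_isAffine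
    rw [Scheme.ker_of_isAffine, Scheme.ker_of_isAffine]
    simp only [Scheme.IdealSheafData.ofIdealTop_ideal]
    refine Ideal.map_mono ?_
    rw [hker, Ideal.span_le]
    rintro _ ⟨a, rfl⟩
    have h := congrArg (fun φ => φ.appTop (AffineSpace.coord S (⟨Sum.inr a⟩ : ULift.{u} (Fin m ⊕ Fin n)))) s.condition
    simp only [Scheme.Hom.comp_appTop, CommRingCat.comp_apply, Z, AffineSpace.homOfVector_appTop_coord,
      Sum.elim_inr, map_zero] at h
    exact h.symm
  · apply AffineSpace.hom_ext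
    · have h := congrArg (fun φ => φ ≫ (𝔸(ULift.{u} (Fin m ⊕ Fin n); S) ↘ S)) s.condition
      simp only [Category.assoc, Z, AffineSpace.homOfVector_over] at h
      simp only [Category.assoc, ρ, AffineSpace.homOfVector_over, IsClosedImmersion.lift_fac_assoc]
      exact h.symm
    · rintro ⟨a⟩
      have h := congrArg (fun φ => φ.appTop (AffineSpace.coord S (⟨Sum.inl a⟩ : ULift.{u} (Fin m ⊕ Fin n)))) s.condition
      simp only [Scheme.Hom.comp_appTop, CommRingCat.comp_apply, Z, AffineSpace.homOfVector_appTop_coord,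
        Sum.elim_inl] at h
      simp only [Scheme.Hom.comp_appTop, CommRingCat.comp_apply, ρ, AffineSpace.homOfVector_appTop_coord]
      rw [← CommRingCat.comp_apply, ← Scheme.Hom.comp_appTop, IsClosedImmersion.lift_fac]
      exact h.symm

end Groth.Agent.SmSub
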