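import Groth.Agent.S2818

/-!
# Étale coordinates vanishing on an unramified closed subscheme
-/

set_option autoImplicit false
set_option linter.style.haveILetI false
set_option backward.isDefEq.respectTransparency false
set_option maxHeartbeats 1000000

universe u v

open scoped TensorProduct
open TensorProduct

noncomputable section

namespace Groth.Agent.SmSub

open KaehlerDifferential in
noncomputable def thetaEquiv (R : Type u) {A : Type v} [CommRing R] [CommRing A] [Algebra R A]
    (q : Ideal A) [q.IsPrime] :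
    (q.ResidueField ⊗[A] Ω[A⁄R]) ≃ₗ[q.ResidueField]
      (q.ResidueField ⊗[Localization.AtPrime q] Ω[Localization.AtPrime q⁄R]) :=
  haveI : Algebra.FormallyEtale A (Localization.AtPrime q) :=
    Algebra.FormallyEtale.of_isLocalization q.primeCompl
  (AlgebraTensorModule.cancelBaseChange A (Localization.AtPrime q) q.ResidueField q.ResidueField
      Ω[A⁄R]).symm ≪≫ₗ
    AlgebraTensorModule.congr (LinearEquiv.refl _ _)
      (KaehlerDifferential.tensorKaehlerEquivOfFormallyEtale R A (Localization.AtPrime q))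

open KaehlerDifferential in
theorem thetaEquiv_tmul_D (R : Type u) {A : Type v} [CommRing R] [CommRing A] [Algebra R A]
    (q : Ideal A) [q.IsPrime] (a : A) :
    thetaEquiv R q ((1 : q.ResidueField) ⊗ₜ[A] D R A a) =
      (1 : q.ResidueField) ⊗ₜ D R (Localization.AtPrime q) (algebraMap A _ a) := by
  simp [thetaEquiv]

open KaehlerDifferential in
theorem exists_coords_of_unramified (A : Type u) (B : Type v) [CommRing A] [CommRing B] [Algebra A B]
    [Algebra.FinitePresentation A B] (J : Ideal B) [Algebra.FormallyUnramified A (B ⧸ J)]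
    (q : Ideal B) [q.IsPrime] (hJq : J ≤ q) [Algebra.IsSmoothAt A q] :
    ∃ (f : B) (_ : f ∉ q) (d : ℕ) (g : Fin d → B), (∀ j, g j ∈ J) ∧
      (MvPolynomial.aeval (fun j => algebraMap B (Localization.Away f) (g j)) :
          MvPolynomial (Fin d) A →ₐ[A] Localization.Away f).toRingHom.Etale := by
  classical
  let κ := q.ResidueField
  let L := Localization.AtPrime q
  haveI : Algebra.FormallySmooth A L := ‹Algebra.IsSmoothAt A q›
  haveI : Algebra.EssFiniteType A L := Algebra.EssFiniteType.comp A B L
  let φ : (B ⧸ J) →ₐ[B] κ := Ideal.Quotient.liftₐ J (Algebra.ofId B κ)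
    (fun b hb => Ideal.algebraMap_residueField_eq_zero.2 (hJq hb))
  let Φ : (B ⧸ J) ⊗[B] Ω[B⁄A] →ₗ[B] κ ⊗[B] Ω[B⁄A] := TensorProduct.map φ.toLinearMap LinearMap.id
  have hall : Submodule.span κ (Set.range fun j : J => (1 : κ) ⊗ₜ[B] D A B j.1) = ⊤ := by
    rw [eq_top_iff]
    rintro x -
    induction x using TensorProduct.induction_on with
    | zero => exact Submodule.zero_mem _
    | add x y hx hy => exact Submodule.add_mem _ hx hy
    | tmul t w =>
      rw [show t ⊗ₜ[B] w = t • ((1 : κ) ⊗ₜ[B] w) by rw [TensorProduct.smul_tmul', smul_eq_mul, mul_one]]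
      refine Submodule.smul_mem _ _ ?_
      obtain ⟨c, hc⟩ := (exact_kerCotangentToTensor_mapBaseChange A B (B ⧸ J)
        Ideal.Quotient.mk_surjective ((1 : B ⧸ J) ⊗ₜ[B] w)).1 (Subsingleton.elim _ _)
      obtain ⟨⟨y, hy⟩, rfl⟩ := Ideal.toCotangent_surjective _ c
      have hyJ : y ∈ J := (Ideal.Quotient.eq_zero_iff_mem).1 hy
      rw [kerCotangentToTensor_toCotangent A B (B ⧸ J) ⟨y, hy⟩] at hc
      have h := congrArg Φ hc
      simp only [Φ, TensorProduct.map_tmul, AlgHom.toLinearMap_apply, map_one, LinearMap.id_apply] at h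
      exact Submodule.subset_span ⟨⟨y, hyJ⟩, h⟩
  obtain ⟨η, a, -, hsp, hli⟩ := exists_linearIndependent' κ (fun j : J => (1 : κ) ⊗ₜ[B] D A B j.1)
  haveI : Finite η := hli.finite
  obtain ⟨d, ⟨e⟩⟩ := Finite.exists_equiv_fin η
  let G : Fin d → B := fun j => (a (e.symm j)).1
  let vG : Fin d → κ ⊗[B] Ω[B⁄A] := fun i => (1 : κ) ⊗ₜ[B] D A B (G i)
  have hliG : LinearIndependent κ vG := hli.comp _ e.symm.injective
  have hspG : Submodule.span κ (Set.range vG) = ⊤ := by
    rw [← hall, ← hsp]
    exact congrArg _ (e.symm.surjective.range_comp ((fun j : J => (1 : κ) ⊗ₜ[B] D A B j.1) ∘ a))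
  let P := MvPolynomial (Fin d) A
  letI : Algebra P B := (MvPolynomial.aeval G : P →ₐ[A] B).toRingHom.toAlgebra
  haveI : IsScalarTower A P B := IsScalarTower.of_algebraMap_eq fun x =>
    ((MvPolynomial.aeval G : P →ₐ[A] B).commutes x).symm
  haveI : Module.FinitePresentation L Ω[L⁄A] := Module.finitePresentation_of_projective L Ω[L⁄A]
  have h2 : (⇑(TensorProduct.mk L (IsLocalRing.ResidueField L) Ω[L⁄A] 1) ∘
      fun i => D A L (algebraMap B L (G i))) = ⇑(thetaEquiv A q).toLinearMap ∘ vG :=
    funext fun i => (thetaEquiv_tmul_D A q (G i)).symm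
  obtain ⟨bas, hbas⟩ := Module.exists_basis_of_basis_baseChange (R := L)
    (fun i => D A L (algebraMap B L (G i)))
    (by rw [h2]; exact hliG.map' (thetaEquiv A q).toLinearMap (LinearEquiv.ker _))
    (by
      rw [h2, Set.range_comp]
      exact (Submodule.map_span _ _).symm.trans (by rw [hspG, Submodule.map_top, LinearEquiv.range]))
    (Module.Flat.rTensor_preserves_injective_linearMap _ Subtype.val_injective)
  haveI : Algebra.FormallyEtale P L := S2818.formallyEtale_of_basis bas fun i => by
    rw [hbas, IsScalarTower.algebraMap_apply P B L, show algebraMap P B (MvPolynomial.X i) = G i from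
      MvPolynomial.aeval_X G i]
  haveI : Algebra.FinitePresentation P B := Algebra.FinitePresentation.of_restrict_scalars_finitePresentation A P B
  haveI : Algebra.IsEtaleAt P q := ‹Algebra.FormallyEtale P L›
  obtain ⟨f, hfq, hf⟩ := Algebra.exists_etale_of_isEtaleAt (R := P) q
  refine ⟨f, hfq, d, G, fun j => (a (e.symm j)).2, ?_⟩
  have e' : (MvPolynomial.aeval (fun j => algebraMap B (Localization.Away f) (G j)) : P →ₐ[A] _) =
      IsScalarTower.toAlgHom A P (Localization.Away f) := MvPolynomial.algHom_ext fun i => by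
    rw [MvPolynomial.aeval_X, IsScalarTower.coe_toAlgHom', IsScalarTower.algebraMap_apply P B (Localization.Away f),
      show algebraMap P B (MvPolynomial.X i) = G i from MvPolynomial.aeval_X G i]
  rw [e']
  exact RingHom.etale_algebraMap.2 hf

end Groth.Agent.SmSub
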