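import Groth.Agent.S2818

/-!
# Étale coordinates adapted to a smooth quotient
-/

set_option autoImplicit false
set_option linter.style.haveILetI false
set_option backward.isDefEq.respectTransparency false

universe u

open scoped TensorProduct

noncomputable section

namespace Groth.Agent.SmSub

theorem exists_gens {B : Type u} [CommRing B] (J : Ideal B) (hJ : J.FG) (q : Ideal B) [q.IsPrime] :
    ∃ (r : ℕ) (g : Fin r → B), (∀ i, g i ∈ J) ∧
      J.map (algebraMap B (Localization.AtPrime q)) =
        Ideal.span (Set.range fun i => algebraMap B (Localization.AtPrime q) (g i)) ∧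
      r = Module.finrank q.ResidueField (q.ResidueField ⊗[B] J) := by
  classical
  let κ := q.ResidueField
  let L := Localization.AtPrime q
  haveI : Module.Finite B J := Module.Finite.iff_fg.2 hJ
  obtain ⟨η, a, -, hsp, hli⟩ := exists_linearIndependent' κ (fun j : J => (1 : κ) ⊗ₜ[B] j)
  haveI : Finite η := hli.finite
  obtain ⟨r, ⟨e⟩⟩ := Finite.exists_equiv_fin η
  have htop : Submodule.span κ (Set.range fun j : J => (1 : κ) ⊗ₜ[B] j) = ⊤ := by
    rw [eq_top_iff]
    rintro x -
    induction x using TensorProduct.induction_on with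
    | zero => exact Submodule.zero_mem _
    | add x y hx hy => exact Submodule.add_mem _ hx hy
    | tmul t w =>
      rw [show t ⊗ₜ[B] w = t • ((1 : κ) ⊗ₜ[B] w) by rw [TensorProduct.smul_tmul', smul_eq_mul, mul_one]]
      exact Submodule.smul_mem _ _ (Submodule.subset_span ⟨w, rfl⟩)
  let v : Fin r → κ ⊗[B] J := fun i => (1 : κ) ⊗ₜ[B] a (e.symm i)
  have hv : LinearIndependent κ v := hli.comp _ e.symm.injective
  have hvs : Submodule.span κ (Set.range v) = ⊤ := by
    rw [← htop, ← hsp]
    exact congrArg _ (e.symm.surjective.range_comp ((fun j : J => (1 : κ) ⊗ₜ[B] j) ∘ a))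
  refine ⟨r, fun i => a (e.symm i), fun i => (a (e.symm i)).2, ?_, ?_⟩
  swap
  · rw [← finrank_top κ (κ ⊗[B] J), ← hvs, finrank_span_eq_card hv, Fintype.card_fin]
  let M : Ideal L := J.map (algebraMap B L)
  haveI : Module.Finite L M := Module.Finite.iff_fg.2 (hJ.map _)
  let ιJ : J →ₗ[B] M :=
    { toFun := fun j => ⟨algebraMap B L j.1, Ideal.mem_map_of_mem _ j.2⟩
      map_add' := fun x y => Subtype.ext (map_add _ _ _)
      map_smul' := fun b x => Subtype.ext (by
        show algebraMap B L (b * x.1) = b • algebraMap B L x.1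
        rw [map_mul, Algebra.smul_def]) }
  let N : Submodule L M := Submodule.span L (Set.range fun i => ιJ (a (e.symm i)))
  let mkL : M →ₗ[L] κ ⊗[L] M := TensorProduct.mk L κ M 1
  let φ : κ ⊗[B] J →ₗ[κ] κ ⊗[L] M :=
    LinearMap.liftBaseChange κ ((mkL.restrictScalars B).comp ιJ)
  have hφ : ∀ j : J, φ (1 ⊗ₜ j) = mkL (ιJ j) := fun j => by
    simp [φ, LinearMap.liftBaseChange_tmul]
  have hres : Function.Surjective (algebraMap L κ) := IsLocalRing.residue_surjective
  have hmem : ∀ x ∈ Submodule.span κ (Set.range v), φ x ∈ N.map mkL := by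
    intro x hx
    induction hx using Submodule.span_induction with
    | mem y hy =>
      obtain ⟨i, rfl⟩ := hy
      exact ⟨ιJ (a (e.symm i)), Submodule.subset_span ⟨i, rfl⟩, (hφ _).symm⟩
    | zero => simp
    | add y z _ _ hy hz => rw [map_add]; exact add_mem hy hz
    | smul c y _ hy =>
      obtain ⟨l, rfl⟩ := hres c
      rw [map_smul, algebraMap_smul]
      exact Submodule.smul_mem _ l hy
  have hM : Submodule.span L (Set.range ιJ) = ⊤ := by
    rw [eq_top_iff]
    rintro ⟨x, hx⟩ -
    have hx' : x ∈ Submodule.span L (algebraMap B L '' (J : Set B)) := hx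
    induction hx' using Submodule.span_induction with
    | mem y hy => obtain ⟨j, hj, rfl⟩ := hy; exact Submodule.subset_span ⟨⟨j, hj⟩, rfl⟩
    | zero => exact Submodule.zero_mem _
    | add y z hy hz ihy ihz => exact add_mem (ihy hy) (ihz hz)
    | smul c y hy ihy => exact Submodule.smul_mem _ c (ihy hy)
  have hN : N = ⊤ := by
    refine IsLocalRing.map_tensorProduct_mk_eq_top.1 ?_
    rw [eq_top_iff]
    rintro (z : κ ⊗[L] M) -
    show z ∈ N.map mkL
    induction z using TensorProduct.induction_on with
    | zero => exact Submodule.zero_mem _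
    | add x y hx hy => exact Submodule.add_mem _ hx hy
    | tmul t m =>
      obtain ⟨l, rfl⟩ := hres t
      rw [show algebraMap L κ l ⊗ₜ[L] m = l • mkL m by
        simp [mkL, TensorProduct.smul_tmul', Algebra.smul_def]]
      refine Submodule.smul_mem _ l ?_
      have hm : m ∈ Submodule.span L (Set.range ιJ) := hM ▸ trivial
      induction hm using Submodule.span_induction with
      | mem y hy =>
        obtain ⟨j, rfl⟩ := hy
        show mkL (ιJ j) ∈ _
        rw [← hφ]
        exact hmem _ (hvs ▸ trivial)
      | zero => rw [map_zero]; exact Submodule.zero_mem _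
      | add y w _ _ hy hw => rw [map_add]; exact Submodule.add_mem _ hy hw
      | smul c y _ hy => rw [map_smul]; exact Submodule.smul_mem _ c hy
  have hsub := congrArg (Submodule.map M.subtype) hN
  rw [Submodule.map_span, Submodule.map_top, Submodule.range_subtype, ← Set.range_comp] at hsub
  exact hsub.symm

end Groth.Agent.SmSub
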